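import Cfsg.Agent.H387.VO.Main
import Cfsg.Agent.H710.VanCount
import Cfsg.Agent.H870.IMRu
import Cfsg.Agent.H153.ZerosRu
import Cfsg.Agent.H713.Two.Ru

/-!
# `Ru`, `p = 5` (S4987, helper248)

Order 15: the character of degree 783 has 3-defect zero. Order 10: `y = x a` with `C(x) = 5 × A₅`, `|C(y)| ≤ 20 < 26 ≤ k`.
-/

set_option autoImplicit false
set_option maxRecDepth 100000

namespace Cfsg.Agent.H248.VO.Ru

open Cfsg Cfsg.Agent Subgroup Cfsg.Agent.H713
open Cfsg.Agent.SporadicB Cfsg.Agent.RuD.Letters Cfsg.Agent.SporRec.TCUpperCert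
open Cfsg.Agent.KFacts.Ru Cfsg.Agent.KFacts.Ru.CentEng Cfsg.Agent.CpAutRuFive Cfsg.Agent.CpAutRuFive.Cert

universe u

/-- words `c`, their inverses, and the image of the point 0 under `c a c⁻¹` -/
def rows : List (List ℕ × List ℕ × ℕ) := [([], [], 1596), ([0, 4], [0, 4, 0, 4], 1915),
  ([5, 0, 4], [0, 4, 0, 4, 5], 2353), ([0, 4, 0, 4], [0, 4], 190),
  ([0, 4, 5, 0, 4], [0, 4, 0, 4, 5, 0, 4, 0, 4], 2535), ([5, 0, 4, 0, 4], [0, 4, 5], 434),
  ([5, 0, 4, 5, 0, 4], [0, 4, 0, 4, 5, 0, 4, 0, 4, 5], 2094), ([0, 4, 0, 4, 5, 0, 4], [0, 4, 0, 4, 5, 0, 4], 3365),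
  ([0, 4, 5, 0, 4, 0, 4], [0, 4, 5, 0, 4, 0, 4], 3592),
  ([0, 4, 5, 0, 4, 5, 0, 4], [0, 4, 0, 4, 5, 0, 4, 0, 4, 5, 0, 4, 0, 4], 202),
  ([5, 0, 4, 0, 4, 5, 0, 4], [0, 4, 0, 4, 5, 0, 4, 5], 112),
  ([5, 0, 4, 5, 0, 4, 0, 4], [0, 4, 5, 0, 4, 0, 4, 5], 2228),
  ([0, 4, 0, 4, 5, 0, 4, 0, 4], [0, 4, 5, 0, 4], 2854),
  ([0, 4, 0, 4, 5, 0, 4, 5, 0, 4], [0, 4, 0, 4, 5, 0, 4, 0, 4, 5, 0, 4], 3539),
  ([0, 4, 5, 0, 4, 5, 0, 4, 0, 4], [0, 4, 5, 0, 4, 0, 4, 5, 0, 4, 0, 4], 1649)]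

theorem chk1 : (rows.all fun r => chkEq (r.1 ++ wB) (wB ++ r.1)) = true := by decide +kernel
theorem chk2 : (rows.all fun r => chkEq (r.1 ++ r.2.1) []) = true := by decide +kernel
theorem chk3 : (rows.all fun r => Nat.beq (evalK (r.1 ++ ([5] ++ r.2.1)) 0) r.2.2) = true := by decide +kernel
theorem nodup : (rows.map fun r => r.2.2).Nodup := by decide +kernel
theorem chkaa : chkEq [5, 5] [] = true := by decide +kernel
theorem chkxa : chkEq ([5] ++ wB) (wB ++ [5]) = true := by decide +kernel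

local notation "xx" => (wprod ml wB : RuOrder.H)
local notation "aa" => (wprod ml [5] : RuOrder.H)

theorem comm : aa * xx = xx * aa := by
  have h := eq_of_chkEq chkxa
  rwa [wprod_append, wprod_append] at h

theorem aa_sq : aa * aa = 1 := by
  have h := eq_of_chkEq chkaa
  rw [show ([5, 5] : List ℕ) = [5] ++ [5] from rfl, wprod_append] at h
  exact h

theorem orderOf_aa : orderOf aa = 2 := by
  have : Fact (Nat.Prime 2) := ⟨Nat.prime_two⟩
  exact orderOf_eq_prime (by rw [pow_two, aa_sq]) H870.IMRu.ne_one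

theorem order_y : orderOf (xx * aa) = 10 := by
  have h : Commute xx aa := comm.symm
  rw [h.orderOf_mul_eq_mul_orderOf_of_coprime (by rw [orderB, orderOf_aa]; norm_num), orderB, orderOf_aa]

theorem pow_six : (xx * aa) ^ 6 = xx := by
  have h : Commute xx aa := comm.symm
  have h5 : xx ^ 5 = 1 := by rw [← orderB]; exact pow_orderOf_eq_one _
  rw [h.mul_pow, show (6 : ℕ) = 5 + 1 by norm_num, pow_succ, h5, one_mul, pow_succ,
    show (5 : ℕ) = 2 * 2 + 1 by norm_num, pow_succ, pow_mul, pow_two aa, aa_sq, one_pow, one_mul, aa_sq, mul_one]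

theorem pow_five : (xx * aa) ^ 5 = aa := by
  have h : Commute xx aa := comm.symm
  have h5 : xx ^ 5 = 1 := by rw [← orderB]; exact pow_orderOf_eq_one _
  rw [h.mul_pow, h5, one_mul, show (5 : ℕ) = 2 * 2 + 1 by norm_num, pow_succ, pow_mul, pow_two aa, aa_sq, one_pow, one_mul]

theorem card_cent : Nat.card ↥(centralizer ({xx * aa} : Set RuOrder.H)) ≤ 20 := by
  have := finite_H
  set D := centralizer ({xx * aa} : Set RuOrder.H) with hD
  set C := centralizer ({xx} : Set RuOrder.H) with hC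
  have hDm : ∀ g ∈ D, g * xx = xx * g ∧ g * aa = aa * g := by
    intro g hg
    rw [hD, mem_centralizer_singleton_iff] at hg
    have hg' : Commute g (xx * aa) := hg
    have h6 := hg'.pow_right 6
    have h5 := hg'.pow_right 5
    rw [pow_six] at h6
    rw [pow_five] at h5
    exact ⟨h6, h5⟩
  let c : Fin 15 → RuOrder.H := fun i => wprod ml (rows[i.1]'(i.2)).1
  have hc1 : ∀ i, c i ∈ C := by
    intro i
    have h := eq_of_chkEq (List.all_eq_true.1 chk1 _ (List.getElem_mem (l := rows) i.2))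
    rw [wprod_append, wprod_append] at h
    rw [hC, mem_centralizer_singleton_iff]
    exact h
  have hc2 : ∀ i, wprod ml (rows[i.1]'(i.2)).2.1 = (c i)⁻¹ := by
    intro i
    have h := eq_of_chkEq (List.all_eq_true.1 chk2 _ (List.getElem_mem (l := rows) i.2))
    rw [wprod_append, wprod_nil] at h
    exact eq_inv_of_mul_eq_one_right h
  have hc3 : ∀ i, (((c i * aa * (c i)⁻¹ : RuOrder.H) : Equiv.Perm (Fin 4060)) ⟨0, by norm_num⟩ : ℕ) =
      (rows[i.1]'(i.2)).2.2 := by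
    intro i
    have h := Nat.eq_of_beq_eq_true (List.all_eq_true.1 chk3 _ (List.getElem_mem (l := rows) i.2))
    have h2 := evalK_eq ((rows[i.1]'(i.2)).1 ++ ([5] ++ (rows[i.1]'(i.2)).2.1)) ⟨0, by norm_num⟩
    rw [wprod_append, wprod_append, hc2] at h2
    rw [← h, ← h2, mul_assoc]
  have hinj : Function.Injective fun p : Fin 15 × D => (⟨c p.1 * p.2, C.mul_mem (hc1 p.1)
      (by rw [hC, mem_centralizer_singleton_iff]; exact (hDm _ p.2.2).1)⟩ : C) := by
    rintro ⟨i, g⟩ ⟨j, h⟩ he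
    have he' : c i * (g : RuOrder.H) = c j * h := congrArg Subtype.val he
    have key : ∀ (k : Fin 15) (d : D), (c k * (d : RuOrder.H)) * aa * (c k * (d : RuOrder.H))⁻¹ = c k * aa * (c k)⁻¹ := by
      intro k d
      calc (c k * (d : RuOrder.H)) * aa * (c k * (d : RuOrder.H))⁻¹ = c k * ((d : RuOrder.H) * aa) * (d : RuOrder.H)⁻¹ * (c k)⁻¹ := by
            group
        _ = c k * (aa * (d : RuOrder.H)) * (d : RuOrder.H)⁻¹ * (c k)⁻¹ := by rw [(hDm _ d.2).2]
        _ = _ := by group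
    have h1 : c i * aa * (c i)⁻¹ = c j * aa * (c j)⁻¹ := by rw [← key i g, ← key j h, he']
    have h2 : (rows[i.1]'(i.2)).2.2 = (rows[j.1]'(j.2)).2.2 := by rw [← hc3, ← hc3, h1]
    have hij : i = j := by
      have h3 := List.nodup_iff_injective_get.1 nodup
      have h4 : (rows.map fun r => r.2.2).get ⟨i.1, by simp [rows]⟩ = (rows.map fun r => r.2.2).get ⟨j.1, by simp [rows]⟩ := by
        simp only [List.get_eq_getElem, List.getElem_map]
        exact h2
      have h5 := h3 h4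
      exact Fin.ext (congrArg Fin.val h5)
    subst hij
    exact Prod.ext rfl (Subtype.ext (mul_left_cancel he'))
  have h1 := Nat.card_le_card_of_injective _ hinj
  rw [Nat.card_prod, Nat.card_fin] at h1
  have h2 : Nat.card C ≤ 300 := cardB
  omega

theorem model : H387.VO.TwoVan 5 RuOrder.H := by
  have hfin := finite_H
  have : Fact (Nat.Prime 3) := ⟨Nat.prime_three⟩
  -- order 15
  obtain ⟨χ, -, hχ, -⟩ := H713.Two.Ru.exists_783
  have hdz : H665.NoPQ.HasDZ 3 RuOrder.H := ⟨χ, H713.Two.Ru.fac H713.Two.Ru.f3 hχ RuOrder.card_H⟩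
  have h15 := H713.Two.Ru.w15
  refine H387.VO.TwoVan.of_order (x := OddHalf.Table.OutRu.W [0, 8]) (y := xx * aa) ?_ ?_
    (HasDZ.vz hdz ?_) (H710.VanCount.vz_of_card_inner _ ?_ ?_) ?_
  · rw [h15]; norm_num
  · rw [order_y]; norm_num
  · rw [h15]; norm_num
  · have h1 := H153.Zeros.RuCls.classes
    have h2 := card_cent
    omega
  · intro α
    obtain ⟨g, rfl⟩ := OddHalf.Table.OutRu.inner α
    exact ⟨g, rfl⟩
  · rw [h15, order_y]; norm_num

/-- **`Ru`, `p = 5`** -/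
theorem two_ru {K : Type u} [Group K] (h : Spor.IsoRu K) : H387.VO.TwoVan 5 K := by
  obtain ⟨e⟩ := h
  exact model.mulEquiv (e.trans RuLat.Main.equiv).symm

end Cfsg.Agent.H248.VO.Ru
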